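import Cfsg.Agent.Lib.Helper44.FW.Defs

/-!
# FW (S3211): package [CNT]

Strictly more square roots of `j` than of `t₀ = x₀ (n x₀ n⁻¹)` in `C(j) ∩ C(t₀)`.
-/

set_option autoImplicit false

namespace Cfsg.Agent.Lib.Helper85.FW

open Cfsg.Agent.Lib.Helper44.FW

universe u

theorem sq_of_mem_zpowers_fw {G : Type u} [Group G] {j y : G} (hj2 : j ^ 2 = 1)
    (hy : y ∈ Subgroup.zpowers j) : y ^ 2 = 1 := by
  obtain ⟨k, rfl⟩ := Subgroup.mem_zpowers_iff.mp hy
  rw [← zpow_natCast, ← zpow_mul, mul_comm, zpow_mul, zpow_natCast, hj2, one_zpow]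

/-- [CNT]. -/
theorem pkgCnt : PkgCnt.{u} := by
  intro G _ _ L₁ L₂ j n h x₀ hx₀ hx₀sq hCY hPhi
  classical
  haveI : Fintype G := Fintype.ofFinite G
  -- basic facts
  have hj2 : j ^ 2 = 1 := by rw [← h.ord]; exact pow_orderOf_eq_one j
  have hj1 : j ≠ 1 := by
    intro e
    have := h.ord
    rw [e, orderOf_one] at this
    omega
  have hjinv : j⁻¹ = j := by
    rw [inv_eq_iff_mul_eq_one, ← sq]; exact hj2
  have hnj : Commute n j := (Subgroup.mem_centralizer_iff.mp h.hn j (Set.mem_singleton j)).symm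
  set y₀ : G := n * x₀ * n⁻¹ with hy₀def
  have hy₀ : y₀ ∈ L₂ := by
    rw [← h.swap]; exact ⟨x₀, hx₀, rfl⟩
  have hy₀sq : y₀ ^ 2 = j := by
    rw [hy₀def, conj_pow, hx₀sq, hnj.eq, mul_inv_cancel_right]
  have hxy : Commute x₀ y₀ := h.comm x₀ hx₀ y₀ hy₀
  have hxj : Commute x₀ j := by rw [← hx₀sq]; exact (Commute.refl x₀).pow_right 2
  have hyj : Commute y₀ j := by rw [← hy₀sq]; exact (Commute.refl y₀).pow_right 2
  set t₀ : G := x₀ * y₀ with ht₀def
  have hxt : Commute x₀ t₀ := (Commute.refl x₀).mul_right hxy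
  have hyt : Commute y₀ t₀ := hxy.symm.mul_right (Commute.refl y₀)
  have hnt : Commute n t₀ := by
    have e1 : n * (x₀ * (n * x₀ * n⁻¹)) * n⁻¹ = (n * x₀ * n⁻¹) * ((n ^ 2) * x₀ * (n ^ 2)⁻¹) := by
      group
    rw [h.hn2] at e1
    have e2 : j * x₀ * j⁻¹ = x₀ := by rw [← hxj.eq, mul_inv_cancel_right]
    rw [e2] at e1
    have e3 : n * t₀ * n⁻¹ = t₀ := by
      rw [ht₀def, hy₀def, e1]; exact hxy.symm.eq
    exact mul_inv_eq_iff_eq_mul.mp e3
  have hninf : ∀ z : G, z ^ 2 = j → z ∉ L₁ ⊓ L₂ := by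
    intro z hz hmem
    rw [h.meet] at hmem
    exact hj1 (hz ▸ sq_of_mem_zpowers_fw hj2 hmem)
  -- membership in Y
  have hxY : x₀ ∈ L₁ ⊔ L₂ := Subgroup.mem_sup_left hx₀
  have hyY : y₀ ∈ L₁ ⊔ L₂ := Subgroup.mem_sup_right hy₀
  have hnY : n ∉ L₁ ⊔ L₂ := by
    intro hn
    have hle : L₁ ⊔ L₂ ≤ Subgroup.normalizer (L₁ : Set G) := by
      refine sup_le Subgroup.le_normalizer ?_
      intro y hy
      rw [Subgroup.mem_normalizer_iff]
      intro l
      constructor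
      · intro hl
        have e : y * l * y⁻¹ = l := by rw [← h.comm l hl y hy, mul_inv_cancel_right]
        rw [e]; exact hl
      · intro hl
        have e := h.comm (y * l * y⁻¹) hl y⁻¹ (L₂.inv_mem hy)
        have e' : l = y * l * y⁻¹ := by
          have : y * l * y⁻¹ * y⁻¹ = y⁻¹ * (y * l * y⁻¹) := e
          have h2 : l * y⁻¹ = y * l * y⁻¹ * y⁻¹ := by rw [this]; group
          exact mul_right_cancel h2
        rw [e']; exact hl
    have hy1 : y₀ ∈ L₁ := (Subgroup.mem_normalizer_iff.mp (hle hn) x₀).mp hx₀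
    exact hninf y₀ hy₀sq ⟨hy1, hy₀⟩
  -- distinctness
  have d1 : x₀ ≠ x₀⁻¹ := by
    intro e
    have : x₀ ^ 2 = 1 := by rw [sq]; nth_rewrite 2 [e]; exact mul_inv_cancel x₀
    exact hj1 (hx₀sq ▸ this)
  have d2 : y₀ ≠ y₀⁻¹ := by
    intro e
    have : y₀ ^ 2 = 1 := by rw [sq]; nth_rewrite 2 [e]; exact mul_inv_cancel y₀
    exact hj1 (hy₀sq ▸ this)
  have d3 : x₀ ≠ y₀ := fun e => hninf x₀ hx₀sq ⟨hx₀, e ▸ hy₀⟩
  have d4 : x₀ ≠ y₀⁻¹ := fun e => hninf x₀ hx₀sq ⟨hx₀, e ▸ L₂.inv_mem hy₀⟩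
  have d5 : x₀⁻¹ ≠ y₀ := fun e => hninf y₀ hy₀sq ⟨e ▸ L₁.inv_mem hx₀, hy₀⟩
  have d6 : x₀⁻¹ ≠ y₀⁻¹ := fun e => d3 (inv_injective e)
  -- the two finsets
  rw [Nat.card_eq_fintype_card, Nat.card_eq_fintype_card, Fintype.card_subtype,
    Fintype.card_subtype]
  set ST : Finset G := Finset.univ.filter
    (fun r => r * j = j * r ∧ r * t₀ = t₀ * r ∧ r ^ 2 = t₀) with hST
  set SJ : Finset G := Finset.univ.filter
    (fun r => r * j = j * r ∧ r * t₀ = t₀ * r ∧ r ^ 2 = j) with hSJ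
  have memST : ∀ r, r ∈ ST ↔ (r * j = j * r ∧ r * t₀ = t₀ * r ∧ r ^ 2 = t₀) := by
    intro r; simp [hST]
  have memSJ : ∀ r, r ∈ SJ ↔ (r * j = j * r ∧ r * t₀ = t₀ * r ∧ r ^ 2 = j) := by
    intro r; simp [hSJ]
  -- the part of ST inside Y
  obtain ⟨a, b, hab⟩ := hCY
  have h1 : (ST.filter (fun r => r ∈ L₁ ⊔ L₂)).card ≤ 4 := by
    have hsub : ST.filter (fun r => r ∈ L₁ ⊔ L₂) ⊆ ({a, a * j, b, b * j} : Finset G) := by
      intro r hr
      rw [Finset.mem_filter, memST] at hr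
      have := hab r hr.2 hr.1.2.2
      simp only [Finset.mem_insert, Finset.mem_singleton]
      exact this
    exact (Finset.card_le_card hsub).trans Finset.card_le_four
  have h2 := Finset.card_filter_add_card_filter_not (s := ST) (fun r => r ∈ L₁ ⊔ L₂)
  -- the four square roots of j inside Y
  set A4 : Finset G := {x₀, x₀⁻¹, y₀, y₀⁻¹} with hA4
  have h3 : A4.card = 4 := by
    rw [hA4, Finset.card_insert_of_notMem, Finset.card_insert_of_notMem,
      Finset.card_insert_of_notMem, Finset.card_singleton]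
    · simpa using d2
    · simp only [Finset.mem_insert, Finset.mem_singleton, not_or]; exact ⟨d5, d6⟩
    · simp only [Finset.mem_insert, Finset.mem_singleton, not_or]; exact ⟨d1, d3, d4⟩
  have hA4Y : ∀ r ∈ A4, r ∈ L₁ ⊔ L₂ := by
    intro r hr
    simp only [hA4, Finset.mem_insert, Finset.mem_singleton] at hr
    rcases hr with rfl | rfl | rfl | rfl
    · exact hxY
    · exact (L₁ ⊔ L₂).inv_mem hxY
    · exact hyY
    · exact (L₁ ⊔ L₂).inv_mem hyY
  have hA4SJ : A4 ⊆ SJ := by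
    intro r hr
    simp only [hA4, Finset.mem_insert, Finset.mem_singleton] at hr
    rw [memSJ]
    rcases hr with rfl | rfl | rfl | rfl
    · exact ⟨hxj.eq, hxt.eq, hx₀sq⟩
    · exact ⟨hxj.inv_left.eq, hxt.inv_left.eq, by rw [inv_pow, hx₀sq, hjinv]⟩
    · exact ⟨hyj.eq, hyt.eq, hy₀sq⟩
    · exact ⟨hyj.inv_left.eq, hyt.inv_left.eq, by rw [inv_pow, hy₀sq, hjinv]⟩
  -- the part outside Y
  set Sout : Finset G := ST.filter (fun r => ¬ r ∈ L₁ ⊔ L₂) with hSout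
  set B : Finset G := insert n (Sout.image (fun r => r * x₀)) with hB
  have hout : ∀ r ∈ Sout, (r * x₀) ^ 2 = j ∧ r * x₀ ≠ n ∧ r * x₀ ∉ L₁ ⊔ L₂ ∧
      r * x₀ ∈ SJ := by
    intro r hr
    rw [hSout, Finset.mem_filter, memST] at hr
    obtain ⟨⟨hrj, hrt, hrsq⟩, hrY⟩ := hr
    have hrC : r ∈ Subgroup.centralizer ({j} : Set G) := by
      rw [Subgroup.mem_centralizer_iff]
      intro g hg
      rw [Set.mem_singleton_iff] at hg
      rw [hg]; exact hrj.symm
    obtain ⟨p1, p2⟩ := hPhi r hrC hrY hrt hrsq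
    refine ⟨p1, p2, ?_, ?_⟩
    · intro hmem
      apply hrY
      have := (L₁ ⊔ L₂).mul_mem hmem ((L₁ ⊔ L₂).inv_mem hxY)
      rwa [mul_inv_cancel_right] at this
    · rw [memSJ]
      have c1 : Commute r j := hrj
      have c2 : Commute r t₀ := hrt
      exact ⟨(c1.mul_left hxj).eq, (c2.mul_left hxt).eq, p1⟩
  have h4 : B.card = Sout.card + 1 := by
    rw [hB, Finset.card_insert_of_notMem, Finset.card_image_of_injective]
    · intro r r' e
      exact mul_right_cancel e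
    · intro hmem
      rw [Finset.mem_image] at hmem
      obtain ⟨r, hr, e⟩ := hmem
      exact (hout r hr).2.1 e
  have hBY : ∀ r ∈ B, r ∉ L₁ ⊔ L₂ := by
    intro r hr
    rw [hB, Finset.mem_insert, Finset.mem_image] at hr
    rcases hr with rfl | ⟨r', hr', rfl⟩
    · exact hnY
    · exact (hout r' hr').2.2.1
  have hBSJ : B ⊆ SJ := by
    intro r hr
    rw [hB, Finset.mem_insert, Finset.mem_image] at hr
    rcases hr with rfl | ⟨r', hr', rfl⟩
    · rw [memSJ]; exact ⟨hnj.eq, hnt.eq, h.hn2⟩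
    · exact (hout r' hr').2.2.2
  have h5 : Disjoint A4 B := by
    rw [Finset.disjoint_left]
    intro r hrA hrB
    exact hBY r hrB (hA4Y r hrA)
  have h6 : A4 ∪ B ⊆ SJ := Finset.union_subset hA4SJ hBSJ
  have h7 := Finset.card_le_card h6
  rw [Finset.card_union_of_disjoint h5, h3, h4] at h7
  have h8 : (ST.filter (fun r => ¬ r ∈ L₁ ⊔ L₂)).card = Sout.card := rfl
  omega

end Cfsg.Agent.Lib.Helper85.FW
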